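import Groth.Agent.SurfNumLib.Basic
import Groth.Agent.FLILib.Invertible
import Groth.Agent.PnDualLib.DualX
import Groth.Agent.PerfLib.Coherent
import Groth.Agent.FibDimLib.Pure
import Groth.Agent.S1617

/-!
# Riemann–Roch on a Cohen–Macaulay projective surface with invertible dualizing module
-/

set_option autoImplicit false
set_option linter.style.haveILetI false
set_option linter.unusedSectionVars false
set_option backward.isDefEq.respectTransparency false
universe u

open CategoryTheory CategoryTheory.Limits AlgebraicGeometry TopologicalSpace Opposite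
open HilbPolyLib DevissLib IntMultLib IntFunLib HodgeIdxLib

noncomputable section

namespace CMRR

variable {k : Type u} [Field k] {X : Scheme.{u}} [X.Over (Spec (CommRingCat.of k))] [IsIntegral X]
  [IsProper (X ↘ Spec (CommRingCat.of k))]

/-- Duality for an invertible module. -/
theorem hh_dual (hdim : topologicalKrullDim X = ((2 : ℕ) : WithBot ℕ∞)) {N : ℕ} (ι : X ⟶ CohB1.ProjSpace N k)
    [IsClosedImmersion ι] (hCM : ∀ x : X, LocCoh.IsCohenMacaulayLocalRing (X.presheaf.stalk x))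
    {ω : X.Modules} (hω : Coh.IsCoh ω) (t : Coh.HH X ω 2 →ₗ[k] k)
    (hdual : ∀ F : X.Modules, Coh.IsCoh F → ∀ ψ : Coh.HH X F 2 →ₗ[k] k,
        ∃! φ : F ⟶ ω, ∀ x : Coh.HH X F 2,
          ψ x = t (Sheaf.H.map ((SheafOfModules.toSheaf X.ringCatSheaf).map φ) 2 x))
    {L L' : X.Modules} (hL : PicF.IsInvertible L) (e : CohB1.tensorMod L L' ≅ Coh.structureModule X)
    (p : ℕ) (hp : p ≤ 2) : hh k L p = hh k (CohB1.tensorMod L' ω) (2 - p) := by
  haveI := CurvLib.isNoetherian k (X := X)
  haveI : HasExt.{u} X.Modules := hasExt_of_enoughInjectives.{u} _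
  have hF : FlatMod.IsFinLocFree L := CurveVBLib.isFinLocFree_of_rank (CurvLib.locFree_of_isInvertible hL)
  have heq : ∀ Z : Set ↥X, Z ∈ irreducibleComponents ↥X → topologicalKrullDim ↥Z = ((2 : ℕ) : WithBot ℕ∞) := by
    intro Z hZ
    have hZu : Z = Set.univ := Set.univ_subset_iff.1
      (hZ.2 (IrreducibleSpace.isIrreducible_univ X) (Set.subset_univ _))
    subst hZu
    exact (IsHomeomorph.topologicalKrullDim_eq _ (Homeomorph.Set.univ X).isHomeomorph).trans hdim
  obtain ⟨D, rfl, hDs⟩ := PnDualLib.nonempty_dualData ι 2 ω hω t hdual fun x hx => by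
    haveI := hCM x
    have h : ringKrullDim (X.presheaf.stalk x) = ((2 : ℕ) : WithBot ℕ∞) := by
      rw [← Groth.Agent.S1617.result k X x hx]
      exact FibDimLib.IsPureDim.localDim_eq (X ↘ Spec (CommRingCat.of k)) heq x
    have h3 := LocCoh.IsCohenMacaulayLocalRing.supportDim_eq_depth (R := X.presheaf.stalk x)
    rw [Module.supportDim_self_eq_ringKrullDim, h] at h3
    exact (WithBot.coe_inj.1 h3).le
  obtain ⟨e₁⟩ := PnDualLib.nonempty_extX_dual D L (Groth.Agent.PerfLib.isCoh_of_isFinLocFree hF) (2 - p) (Nat.sub_le 2 p)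
    ((Nat.sub_le 2 p).trans_eq hDs.symm)
  obtain ⟨e₂⟩ := PnDualLib.nonempty_ext_homMod hF k (2 - p) D.ω
  rw [Nat.sub_sub_self hp] at e₁
  rw [hh, ← Subspace.dual_finrank_eq, (e₁.symm ≪≫ₗ e₂).finrank_eq]
  exact hh_congr (k := k) (FLI.homModIso e D.ω) (2 - p)

theorem euler_eq_three {M : X.Modules} (hX : topologicalKrullDim X ≤ ((2 : ℕ) : WithBot ℕ∞)) :
    Curv2.euler k X M = (hh k M 0 : ℤ) - hh k M 1 + hh k M 2 := by
  haveI := CurvLib.isNoetherian k (X := X)
  rw [CurvLib.euler_eq_sum (d := 3) fun i hi => CurvLib.subsingleton_HH_of_dim_le M hX i (by omega)]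
  simp [Finset.sum_range_succ, hh]
  ring

/-- Riemann–Roch. -/
theorem riemann_roch (hdim : topologicalKrullDim X = ((2 : ℕ) : WithBot ℕ∞)) {N : ℕ} (ι : X ⟶ CohB1.ProjSpace N k)
    [IsClosedImmersion ι] (hCM : ∀ x : X, LocCoh.IsCohenMacaulayLocalRing (X.presheaf.stalk x))
    {ω : X.Modules} (hω : Coh.IsCoh ω) (hωi : PicF.IsInvertible ω) (t : Coh.HH X ω 2 →ₗ[k] k)
    (hdual : ∀ F : X.Modules, Coh.IsCoh F → ∀ ψ : Coh.HH X F 2 →ₗ[k] k,
        ∃! φ : F ⟶ ω, ∀ x : Coh.HH X F 2,
          ψ x = t (Sheaf.H.map ((SheafOfModules.toSheaf X.ringCatSheaf).map φ) 2 x))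
    {L : X.Modules} (hL : PicF.IsInvertible L) :
    2 * Curv2.euler k X L = pr k L L - pr k L ω + 2 * Curv2.euler k X (Coh.structureModule X) := by
  haveI := CurvLib.isNoetherian k (X := X)
  have hdual' : ∀ {M M' : X.Modules}, PicF.IsInvertible M → (CohB1.tensorMod M M' ≅ Coh.structureModule X) →
      Curv2.euler k X M = Curv2.euler k X (CohB1.tensorMod M' ω) := by
    intro M M' hM e
    rw [euler_eq_three hdim.le, euler_eq_three hdim.le, hh_dual hdim ι hCM hω t hdual hM e 0 (by omega),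
      hh_dual hdim ι hCM hω t hdual hM e 1 (by omega), hh_dual hdim ι hCM hω t hdual hM e 2 le_rfl]
    simp
    ring
  have hD := MiscFlat6.dual_isInvertible hL
  obtain ⟨e⟩ := MiscFlat6.nonempty_dualIso hL
  have h1 := hdual' hL e
  have h0 := hdual' (M' := Coh.structureModule X) CurvLib.isInvertible_structureModule (unitLeft _)
  rw [CurvLib.euler_congr (k := k) (unitLeft ω)] at h0
  have h2 := euler_tensor (k := k) ω (MiscFlat6.dual L)
  have h3 := euler_tensor (k := k) L (MiscFlat6.dual L)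
  rw [CurvLib.euler_congr (k := k) (swapIso _ _ ≪≫ e)] at h3
  have hi := pr_inverse (k := k) hdim.le hL hD hωi e
  have hi2 := pr_inverse (k := k) hdim.le hL hD hL e
  have c1 := pr_comm (k := k) ω (MiscFlat6.dual L)
  have c2 := pr_comm (k := k) L (MiscFlat6.dual L)
  unfold HodgeIdxLib.pr at *
  omega

end CMRR

end
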